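import Groth.Agent.H52.FBase.GeomRed
import Groth.Agent.Lib.RefHull.NormalAlg
import Mathlib.FieldTheory.IsAlgClosed.AlgebraicClosure
import Mathlib.FieldTheory.Perfect
import Mathlib.RingTheory.DiscreteValuationRing.TFAE
import Mathlib.RingTheory.Localization.AtPrime.Basic

/-!
A function taking equal values at all pairs of points with the same image is a fraction of functions on
the base (characteristic zero); fractions which are regular in codimension one are regular.
-/

set_option autoImplicit false

universe u

open TensorProduct

namespace Groth.Agent.H60.OrbFib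

noncomputable section

theorem exists_frac {A B : Type u} [CommRing A] [IsDomain A] [CharZero A] [CommRing B] [IsDomain B] [Algebra A B]
    (hinj : Function.Injective (algebraMap A B)) (f : B)
    (hu : ∀ (Ω : Type u) [Field Ω] [IsAlgClosed Ω] (u₁ u₂ : B →+* Ω),
      u₁.comp (algebraMap A B) = u₂.comp (algebraMap A B) → u₁ f = u₂ f) :
    ∃ a b : A, b ≠ 0 ∧ algebraMap A B b * f = algebraMap A B a := by
  let K := FractionRing A
  let L := FractionRing B
  haveI : CharZero K := charZero_of_injective_ringHom (IsFractionRing.injective A K)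
  have hAL : Function.Injective ((algebraMap B L).comp (algebraMap A B)) :=
    (IsFractionRing.injective B L).comp hinj
  let j : K →+* L := IsFractionRing.lift hAL
  letI : Algebra K L := j.toAlgebra
  have hj : ∀ a : A, j (algebraMap A K a) = algebraMap B L (algebraMap A B a) := fun a =>
    IsFractionRing.lift_algebraMap hAL a
  haveI : Algebra.IsGeometricallyReduced K L := H52.FBase.GeomRed.isGeometricallyReduced_of_perfectField
  haveI : _root_.IsReduced (L ⊗[K] L) := H52.FBase.GeomRed.isReduced_tensor
  let F := algebraMap B L f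
  have hx : IsNilpotent (F ⊗ₜ[K] (1 : L) - (1 : L) ⊗ₜ[K] F) := by
    rw [nilpotent_iff_mem_prime]
    intro Q hQ
    haveI := hQ
    let Ω := AlgebraicClosure Q.ResidueField
    let q : L ⊗[K] L →+* Ω := (algebraMap Q.ResidueField Ω).comp (algebraMap (L ⊗[K] L) Q.ResidueField)
    have hq : RingHom.ker q = Q := by
      rw [RingHom.ker_comp_of_injective _ (RingHom.injective _), Ideal.ker_algebraMap_residueField]
    have h := hu Ω ((q.comp Algebra.TensorProduct.includeLeftRingHom).comp (algebraMap B L))
      ((q.comp (Algebra.TensorProduct.includeRight : L →ₐ[K] L ⊗[K] L).toRingHom).comp (algebraMap B L)) (by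
        refine RingHom.ext fun a => ?_
        refine congrArg q ?_
        show algebraMap B L (algebraMap A B a) ⊗ₜ[K] (1 : L) = (1 : L) ⊗ₜ[K] algebraMap B L (algebraMap A B a)
        rw [← hj, show j (algebraMap A K a) = (algebraMap A K a) • (1 : L) from (mul_one _).symm,
          TensorProduct.smul_tmul])
    rw [← hq, RingHom.mem_ker, map_sub, sub_eq_zero]
    exact h
  have h0 := sub_eq_zero.mp hx.eq_zero
  obtain ⟨l, hl⟩ := LinearMap.exists_leftInverse_of_injective (Algebra.linearMap K L)
    (LinearMap.ker_eq_bot.mpr j.injective)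
  have h1 : l 1 = 1 := by
    have := LinearMap.congr_fun hl 1
    simpa using this
  have hF : F = j (l F) := by
    have := congrArg (fun z => (TensorProduct.rid K L) (l.lTensor L z)) h0
    simp only [LinearMap.lTensor_tmul, TensorProduct.rid_tmul, h1, one_smul] at this
    exact this.trans ((Algebra.smul_def _ _).trans (mul_one _))
  obtain ⟨a, b, hb, hab⟩ := IsFractionRing.div_surjective (A := A) (l F)
  refine ⟨a, b, nonZeroDivisors.ne_zero hb, IsFractionRing.injective B L ?_⟩
  rw [map_mul, ← hj, ← hj, show algebraMap B L f = j (l F) from hF, ← map_mul]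
  congr 1
  rw [← hab, mul_div_cancel₀]
  exact fun h0 => nonZeroDivisors.ne_zero hb (IsFractionRing.injective A K (h0.trans (map_zero _).symm))

theorem exists_eq_of_height_one {A : Type u} [CommRing A] [IsDomain A] [IsNoetherianRing A]
    [IsIntegrallyClosed A] (a b : A) (hb : b ≠ 0)
    (h : ∀ (p : Ideal A) [p.IsPrime], ∀ s r : A, s ∉ p → r ∈ p → s * b ≠ r * a) :
    ∃ c, a = b * c := by
  let K := FractionRing A
  have hbK : algebraMap A K b ≠ 0 := fun h0 => hb (IsFractionRing.injective A K (h0.trans (map_zero _).symm))
  obtain ⟨c, hc⟩ := Lib.RefHull.NormalAlg.mem_range_of_forall_height_one (R := A) (K := K)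
    (algebraMap A K a / algebraMap A K b) (by
      intro p hp hp1
      haveI := hp
      let Ap := Localization.AtPrime p
      haveI : IsIntegrallyClosed Ap :=
        isIntegrallyClosed_of_isLocalization Ap p.primeCompl p.primeCompl_le_nonZeroDivisors
      haveI : IsDomain Ap := IsLocalization.isDomain_localization p.primeCompl_le_nonZeroDivisors
      haveI : IsNoetherianRing Ap := IsLocalization.isNoetherianRing p.primeCompl Ap inferInstance
      have hdim : ringKrullDim Ap = 1 := by
        rw [IsLocalization.AtPrime.ringKrullDim_eq_height p Ap, hp1]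
        rfl
      haveI : Ring.KrullDimLE 1 Ap := Ring.krullDimLE_iff.mpr hdim.le
      have hnf : ¬ IsField Ap := fun hf => by
        obtain ⟨t, htp, ht0⟩ := Submodule.exists_mem_ne_zero_of_ne_bot (Ideal.ne_bot_of_height_eq_one hp1)
        obtain ⟨u, hu⟩ := hf.mul_inv_cancel (a := algebraMap A Ap t)
          (fun h0 => ht0 (IsLocalization.injective Ap p.primeCompl_le_nonZeroDivisors (h0.trans (map_zero _).symm)))
        exact (IsLocalization.AtPrime.isUnit_to_map_iff Ap p t).mp (IsUnit.of_mul_eq_one u hu) htp
      haveI : IsDiscreteValuationRing Ap :=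
        ((IsDiscreteValuationRing.TFAE Ap hnf).out 0 3 :
          IsDiscreteValuationRing Ap ↔ IsIntegrallyClosed Ap ∧ ∃! P : Ideal Ap, P ≠ ⊥ ∧ P.IsPrime).mpr ⟨inferInstance, IsLocalRing.maximalIdeal Ap,
          ⟨fun h0 => hnf (IsLocalRing.isField_iff_maximalIdeal_eq.mpr h0), inferInstance⟩,
          fun P hP => IsLocalRing.eq_maximalIdeal
            (Ring.krullDimLE_one_iff_of_noZeroDivisors.mp inferInstance P hP.1 hP.2)⟩
      rcases ValuationRing.dvd_total (algebraMap A Ap b) (algebraMap A Ap a) with ⟨z, hz⟩ | ⟨z, hz⟩
      · obtain ⟨r, s, rfl⟩ := IsLocalization.exists_mk'_eq p.primeCompl z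
        have e : a * s = b * r := by
          apply IsLocalization.injective Ap p.primeCompl_le_nonZeroDivisors
          rw [map_mul, map_mul, hz, mul_assoc, IsLocalization.mk'_spec]
        refine ⟨r, s, s.2, ?_⟩
        rw [← mul_div_assoc, div_eq_iff hbK, ← map_mul, ← map_mul]
        congr 1
        linear_combination e
      · obtain ⟨r, s, rfl⟩ := IsLocalization.exists_mk'_eq p.primeCompl z
        have e : b * s = a * r := by
          apply IsLocalization.injective Ap p.primeCompl_le_nonZeroDivisors
          rw [map_mul, map_mul, hz, mul_assoc, IsLocalization.mk'_spec]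
        by_cases hr : r ∈ p
        · exact absurd (by linear_combination e) (h p (s : A) r s.2 hr)
        · refine ⟨s, r, hr, ?_⟩
          rw [← mul_div_assoc, div_eq_iff hbK, ← map_mul, ← map_mul]
          congr 1
          linear_combination -e)
  refine ⟨c, IsFractionRing.injective A K ?_⟩
  rw [map_mul, hc, mul_div_cancel₀ _ hbK]

end

end Groth.Agent.H60.OrbFib
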