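import Groth.Agent.H46.ImageDim
import Groth.Agent.H46.UnivOpen
import Groth.Agent.H46.UnivOpenTrdeg
import Groth.Agent.H46.UnibranchDim1
import Groth.Agent.Lib.EtDescent.Main
import Groth.Agent.S2568
import Groth.Agent.S3388
import Groth.Prelude.Def_W4bk4git07Quot
import Mathlib.AlgebraicGeometry.PullbackCarrier

/-!
An invariant dominant morphism to a normal scheme with one orbit in every geometric fibre is universally open:
the second projection of `X ×_Y X` is universally open, so the fibres have the generic dimension.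
-/

set_option autoImplicit false

universe u

open CategoryTheory CategoryTheory.Limits MonoidalCategory CartesianMonoidalCategory MonObj AlgebraicGeometry

namespace Groth.Agent.H60.OrbFib

noncomputable section

open Groth.Agent.H46.FibreTrdeg

theorem universallyOpen_of_comp_surjective {A B C : Scheme.{u}} (f : A ⟶ B) (g : B ⟶ C) [Surjective f]
    [hfg : UniversallyOpen (f ≫ g)] : UniversallyOpen g := by
  refine ⟨fun B' C' g' c b sq => ?_⟩
  let f' := pullback.snd f g'
  haveI : Surjective f' := inferInstance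
  have sq' : IsPullback (pullback.fst f g') (f' ≫ b) (f ≫ g) c :=
    (IsPullback.of_hasPullback f g').paste_vert sq.flip
  haveI : UniversallyOpen (f' ≫ b) := MorphismProperty.of_isPullback sq' hfg
  intro W hW
  have : b.base '' W = (f' ≫ b).base '' (f'.base ⁻¹' W) := by
    rw [Scheme.Hom.comp_base, TopCat.coe_comp, Set.image_comp, Set.image_preimage_eq W f'.surjective]
  show IsOpen (b.base '' W)
  rw [this]
  exact (f' ≫ b).isOpenMap _ (hW.preimage f'.continuous)

variable {S : Scheme.{u}} {G X Y : Over S} [GrpObj G]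

theorem surjective_PsiY (a : AlgGrp.Action G X) (φ : X ⟶ Y) (hi : GIT.IsInvariant a φ)
    (hii : ∀ (Ω : Type u) [Field Ω] [IsAlgClosed Ω] (T : Over S) (_ : T.left ≅ Spec (CommRingCat.of Ω))
      (x₁ x₂ : T ⟶ X), x₁ ≫ φ = x₂ ≫ φ → ∃ g : T ⟶ G, lift g x₂ ≫ a.act = x₁) :
    Surjective (GIT.PsiY a φ hi) := by
  refine ⟨fun p => ?_⟩
  let P := Limits.pullback φ.left φ.left
  let Ω := AlgebraicClosure (P.residueField p)
  let q : Spec (CommRingCat.of Ω) ⟶ P :=
    Spec.map (CommRingCat.ofHom (algebraMap (P.residueField p) Ω)) ≫ P.fromSpecResidueField p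
  let T : Over S := Over.mk (q ≫ pullback.fst φ.left φ.left ≫ X.hom)
  let x₁ : T ⟶ X := Over.homMk (q ≫ pullback.fst φ.left φ.left) (Category.assoc _ _ _)
  let x₂ : T ⟶ X := Over.homMk (q ≫ pullback.snd φ.left φ.left) (by
    show (q ≫ pullback.snd φ.left φ.left) ≫ X.hom = q ≫ pullback.fst φ.left φ.left ≫ X.hom
    rw [← Over.w φ, Category.assoc, ← pullback.condition_assoc])
  have hx : x₁ ≫ φ = x₂ ≫ φ := Over.OverMorphism.ext (by
    show (q ≫ pullback.fst φ.left φ.left) ≫ φ.left = (q ≫ pullback.snd φ.left φ.left) ≫ φ.left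
    simp only [q, Category.assoc, pullback.condition])
  obtain ⟨g, hg⟩ := hii Ω T (Iso.refl _) x₁ x₂ hx
  have e : (lift g x₂).left ≫ GIT.PsiY a φ hi = q := by
    apply pullback.hom_ext
    · rw [Category.assoc, GIT.PsiY, show pullback.lift a.act.left (snd G X).left hi.left ≫
        pullback.fst φ.left φ.left = a.act.left from pullback.lift_fst _ _ _, ← Over.comp_left, hg]
      rfl
    · rw [Category.assoc, GIT.PsiY, show pullback.lift a.act.left (snd G X).left hi.left ≫
        pullback.snd φ.left φ.left = (snd G X).left from pullback.lift_snd _ _ _, ← Over.comp_left,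
        lift_snd]
      rfl
  let z : T.left := IsLocalRing.closedPoint Ω
  refine ⟨(lift g x₂).left.base z, ?_⟩
  rw [← Scheme.Hom.comp_apply, e]
  exact P.fromSpecResidueField_apply p _

theorem universallyOpen_snd (a : AlgGrp.Action G X) (φ : X ⟶ Y) (hi : GIT.IsInvariant a φ)
    [UniversallyOpen G.hom] [Surjective (GIT.PsiY a φ hi)] :
    UniversallyOpen (pullback.snd φ.left φ.left) := by
  haveI : UniversallyOpen (GIT.PsiY a φ hi ≫ pullback.snd φ.left φ.left) := by
    rw [GIT.PsiY, show pullback.lift a.act.left (snd G X).left hi.left ≫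
        pullback.snd φ.left φ.left = (snd G X).left from pullback.lift_snd _ _ _, Over.snd_left]
    exact MorphismProperty.pullback_snd _ _ ‹_›
  exact universallyOpen_of_comp_surjective (GIT.PsiY a φ hi) _

theorem map_genericPoint {X Y : Scheme.{u}} [IrreducibleSpace X] [IrreducibleSpace Y] (f : X ⟶ Y)
    [IsDominant f] : f.base (genericPoint X) = genericPoint Y := by
  apply ((genericPoint_spec (α := X)).image f.continuous).eq
  rw [Set.image_univ, f.denseRange.closure_range]
  exact genericPoint_spec _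

theorem universallyOpen_of_snd {X Y : Scheme.{u}} [IsIntegral X] [IsIntegral Y]
    (hY : ∀ y : Y, CAlg2.IsGeomUnibranch (Y.presheaf.stalk y)) (f : X ⟶ Y) [LocallyOfFiniteType f]
    [IsDominant f] [UniversallyOpen (pullback.snd f f)] : UniversallyOpen f := by
  refine Groth.Agent.S2568.result hY f fun x => ?_
  let ξ := genericPoint X
  have hsp : ∀ z : X, ξ ⤳ z := fun z => genericPoint_specializes z
  have hmax : IsMaxFib f ξ := fun x' _ h => (h.antisymm (hsp x')).eq
  have hle : ∀ ξ₀ : X, trd f ξ₀ ≤ trd f ξ := by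
    intro ξ₀
    obtain ⟨p, hp1, hp2, hp3⟩ := (H46.ImageDim.trd_baseChange_aux f f ξ₀).2 ξ₀ rfl
    obtain ⟨ξ', -, hξ'2, hξ'3⟩ := H46.UnivOpenTrdeg.exists_trd_le (pullback.snd f f) p
      (H46.UnivOpen.isUnivOpenAt_of_universallyOpen _ p) ξ (hsp _)
    have h1 := (H46.ImageDim.trd_baseChange_aux f f (pullback.fst f f ξ')).1 ξ' rfl
    have e : f ξ = f (pullback.fst f f ξ') := by
      rw [← Scheme.Hom.comp_apply, pullback.condition, Scheme.Hom.comp_apply, hξ'2]
    have h2 := trd_le f (hsp (pullback.fst f f ξ')) e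
    omega
  have key : ∀ z : X, FlatMor.fibreDimAt f z = (trd f ξ : WithBot ℕ∞) := fun z =>
    le_antisymm ((fibreDimAt_le_iff f z _).2 fun ξ₀ _ _ => hle ξ₀)
      ((fibreDimAt_of_isMaxFib f hmax).symm.trans_le (fibreDimAt_le_of_specializes f (hsp z)))
  have h1 : FlatMor.fibreDimAt f ξ ≤ topologicalKrullDim ↥(f.fiber (f.base ξ)) :=
    (iInf_le _ ⟨⊤, trivial⟩).trans
      (le_of_eq (IsHomeomorph.topologicalKrullDim_eq _ (Homeomorph.Set.univ _).isHomeomorph))
  have h2 : topologicalKrullDim ↥(f.fiber (f.base ξ)) ≤ FlatMor.fibreDimAt f ξ := by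
    rw [map_genericPoint f]
    exact Groth.Agent.S3388.result f ξ
  rw [key x, ← key ξ]
  exact le_antisymm h1 h2

theorem isGeomUnibranch_stalk {Y : Scheme.{u}} [IsIntegral Y]
    (hY : ∀ U : Y.affineOpens, IsIntegrallyClosed Γ(Y, U)) (y : Y) :
    CAlg2.IsGeomUnibranch (Y.presheaf.stalk y) := by
  obtain ⟨U, hU, hy, -⟩ := exists_isAffineOpen_mem_and_subset (U := ⊤) (x := y) trivial
  haveI : Nonempty U := ⟨⟨y, hy⟩⟩
  haveI : IsIntegrallyClosed Γ(Y, U) := hY ⟨U, hU⟩
  letI := TopCat.Presheaf.algebra_section_stalk Y.presheaf (⟨y, hy⟩ : U)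
  haveI := hU.isLocalization_stalk ⟨y, hy⟩
  haveI : IsIntegrallyClosed (Y.presheaf.stalk y) :=
    isIntegrallyClosed_of_isLocalization _ (hU.primeIdealOf ⟨y, hy⟩).asIdeal.primeCompl
      (hU.primeIdealOf ⟨y, hy⟩).asIdeal.primeCompl_le_nonZeroDivisors
  exact H46.UnibranchDim1.isGeomUnibranch_of_isIntegrallyClosed _

theorem isUnivSubmersive {X Y : Scheme.{u}} (f : X ⟶ Y) [UniversallyOpen f] [Surjective f] :
    GIT.IsUnivSubmersive f := by
  intro X' Y' i₁ i₂ f' sq
  haveI : UniversallyOpen f' := MorphismProperty.of_isPullback sq.flip ‹UniversallyOpen f›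
  haveI : Surjective f' := MorphismProperty.of_isPullback sq.flip ‹Surjective f›
  exact f'.isOpenMap.isQuotientMap f'.continuous f'.surjective

end

end Groth.Agent.H60.OrbFib
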