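import Groth.Agent.H60.OrbFib.Frac
import Groth.Agent.H60.OrbFib.Open
import Groth.Agent.H60.LinB.Coef
import Mathlib.AlgebraicGeometry.FunctionField

/-!
The functions on a normal base are the invariant functions upstairs, for an invariant dominant morphism with
one orbit in every geometric fibre, in characteristic zero.
-/

set_option autoImplicit false

universe u

open CategoryTheory CategoryTheory.Limits MonoidalCategory CartesianMonoidalCategory MonObj AlgebraicGeometry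
  TopologicalSpace Opposite
open Groth.Agent.H60.LinB (rf rf_rf app_rf)

namespace Groth.Agent.H60.OrbFib

noncomputable section

theorem spec_point_appLE {W : Scheme.{u}} {V : W.Opens} (hV : IsAffineOpen V) {Ω : Type u} [CommRing Ω]
    (u : Γ(W, V) ⟶ CommRingCat.of Ω) (e : ⊤ ≤ (Spec.map u ≫ hV.fromSpec) ⁻¹ᵁ V) (b : Γ(W, V)) :
    (Scheme.ΓSpecIso (CommRingCat.of Ω)).hom ((Spec.map u ≫ hV.fromSpec).appLE V ⊤ e b) = u b := by
  have e1 : ⊤ ≤ hV.fromSpec ⁻¹ᵁ V := hV.fromSpec_preimage_self.ge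
  have e2 : hV.fromSpec.appLE V ⊤ e1 = (Scheme.ΓSpecIso Γ(W, V)).inv := by
    rw [Scheme.Hom.appLE, hV.fromSpec_app_self, Category.assoc, ← Functor.map_comp]
    simp
  have e3 : (Spec.map u).appLE ⊤ ⊤ le_top = (Spec.map u).appTop := by
    rw [Scheme.Hom.appLE]
    erw [CategoryTheory.Functor.map_id, Category.comp_id]
  rw [← Scheme.Hom.appLE_comp_appLE (Spec.map u) hV.fromSpec V ⊤ ⊤ e1 le_top, e2, e3]
  show (((Scheme.ΓSpecIso Γ(W, V)).inv ≫ (Spec.map u).appTop) ≫ (Scheme.ΓSpecIso (CommRingCat.of Ω)).hom) b = u b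
  rw [← Scheme.ΓSpecIso_inv_naturality u, Category.assoc, Iso.inv_hom_id, Category.comp_id]

theorem app_injective {X Y : Scheme.{u}} [IsIntegral Y] (f : X ⟶ Y) [IsDominant f] (U : Y.Opens) :
    Function.Injective (f.app U) := by
  refine (injective_iff_map_eq_zero _).mpr fun g hg => ?_
  by_contra hne
  have hb : (Y.basicOpen g : Set Y).Nonempty := by
    rw [Set.nonempty_iff_ne_empty]
    intro h
    exact hne ((basicOpen_eq_bot_iff g).mp (SetLike.coe_injective h))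
  obtain ⟨x, hx⟩ := f.denseRange.exists_mem_open (Y.basicOpen g).2 hb
  have : x ∈ X.basicOpen (f.app U g) := by
    rw [← Scheme.preimage_basicOpen]
    exact hx
  rw [hg, Scheme.basicOpen_zero] at this
  exact this

variable {S : Scheme.{u}} {G X Y : Over S} [GrpObj G]

theorem eq_at_points (a : AlgGrp.Action G X) (φ : X ⟶ Y)
    (hii : ∀ (Ω : Type u) [Field Ω] [IsAlgClosed Ω] (T : Over S) (_ : T.left ≅ Spec (CommRingCat.of Ω))
      (x₁ x₂ : T ⟶ X), x₁ ≫ φ = x₂ ≫ φ → ∃ g : T ⟶ G, lift g x₂ ≫ a.act = x₁)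
    {U : Y.left.Opens} {f : Γ(X.left, φ.left ⁻¹ᵁ U)} (hf : GIT.IsInvSection a φ U f)
    {U' : Y.left.Opens} (hU' : IsAffineOpen U') {V : X.left.Opens} (hV : IsAffineOpen V)
    (hVU' : V ≤ φ.left ⁻¹ᵁ U') (hVU : V ≤ φ.left ⁻¹ᵁ U)
    (Ω : Type u) [Field Ω] [IsAlgClosed Ω] (u₁ u₂ : Γ(X.left, V) →+* Ω)
    (h : u₁.comp (φ.left.appLE U' V hVU').hom = u₂.comp (φ.left.appLE U' V hVU').hom) :
    u₁ (rf hVU f) = u₂ (rf hVU f) := by
  let p₁ := Spec.map (CommRingCat.ofHom u₁) ≫ hV.fromSpec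
  let p₂ := Spec.map (CommRingCat.ofHom u₂) ≫ hV.fromSpec
  have hp : p₁ ≫ φ.left = p₂ ≫ φ.left := by
    rw [Category.assoc, Category.assoc, ← hU'.SpecMap_appLE_fromSpec φ.left hV hVU', ← Spec.map_comp_assoc,
      ← Spec.map_comp_assoc]
    congr 2
    exact CommRingCat.hom_ext h
  let T : Over S := Over.mk (p₁ ≫ X.hom)
  let x₁ : T ⟶ X := Over.homMk p₁ rfl
  let x₂ : T ⟶ X := Over.homMk p₂ (by
    show p₂ ≫ X.hom = p₁ ≫ X.hom
    rw [← Over.w φ, reassoc_of% hp])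
  obtain ⟨g, hg⟩ := hii Ω T (Iso.refl _) x₁ x₂ (Over.OverMorphism.ext hp)
  have h1 : ⊤ ≤ p₁ ⁻¹ᵁ V := by
    intro z _
    show hV.fromSpec.base _ ∈ V
    exact hV.range_fromSpec.le ⟨_, rfl⟩
  have h2 : ⊤ ≤ p₂ ⁻¹ᵁ V := by
    intro z _
    show hV.fromSpec.base _ ∈ V
    exact hV.range_fromSpec.le ⟨_, rfl⟩
  let W : (G ⊗ X).left.Opens :=
    a.act.left ⁻¹ᵁ (φ.left ⁻¹ᵁ U) ⊓ (snd G X).left ⁻¹ᵁ (φ.left ⁻¹ᵁ U)
  have hq : (⊤ : T.left.Opens) ≤ (lift g x₂).left ⁻¹ᵁ W := by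
    intro z _
    refine ⟨?_, ?_⟩
    · show (lift g x₂ ≫ a.act).left.base z ∈ φ.left ⁻¹ᵁ U
      rw [hg]
      exact hVU (h1 trivial)
    · show (lift g x₂ ≫ snd G X).left.base z ∈ φ.left ⁻¹ᵁ U
      rw [lift_snd]
      exact hVU (h2 trivial)
  have hc : ∀ (q q' : T ⟶ X), q = q' → ∀ e e', q.left.appLE (φ.left ⁻¹ᵁ U) ⊤ e f =
      q'.left.appLE (φ.left ⁻¹ᵁ U) ⊤ e' f := by
    rintro q _ rfl e e'
    rfl
  have key := congrArg (fun v => (lift g x₂).left.appLE W ⊤ hq v) hf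
  have hcomp : ∀ (m : G ⊗ X ⟶ X) (e : W ≤ m.left ⁻¹ᵁ (φ.left ⁻¹ᵁ U)) e',
      (lift g x₂).left.appLE W ⊤ hq (m.left.appLE (φ.left ⁻¹ᵁ U) W e f) =
        (lift g x₂ ≫ m).left.appLE (φ.left ⁻¹ᵁ U) ⊤ e' f := fun m e e' =>
    DFunLike.congr_fun (congrArg CommRingCat.Hom.hom
      (Scheme.Hom.appLE_comp_appLE (lift g x₂).left m.left (φ.left ⁻¹ᵁ U) W ⊤ e hq)) f
  have ea : (⊤ : T.left.Opens) ≤ (lift g x₂ ≫ a.act).left ⁻¹ᵁ (φ.left ⁻¹ᵁ U) := fun z hz => (hq hz).1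
  have es : (⊤ : T.left.Opens) ≤ (lift g x₂ ≫ snd G X).left ⁻¹ᵁ (φ.left ⁻¹ᵁ U) := fun z hz => (hq hz).2
  replace key := ((hcomp a.act inf_le_left ea).symm.trans key).trans (hcomp (snd G X) inf_le_right es)
  have key' : (x₁.left.appLE (φ.left ⁻¹ᵁ U) ⊤ (h1.trans (p₁.preimage_mono hVU))) f =
      (x₂.left.appLE (φ.left ⁻¹ᵁ U) ⊤ (h2.trans (p₂.preimage_mono hVU))) f :=
    ((hc (lift g x₂ ≫ a.act) x₁ hg _ _).symm.trans key).trans (hc (lift g x₂ ≫ snd G X) x₂ (lift_snd _ _) _ _)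
  have hres : ∀ (u : Γ(X.left, V) →+* Ω) (e : ⊤ ≤ (Spec.map (CommRingCat.ofHom u) ≫ hV.fromSpec) ⁻¹ᵁ V),
      u (rf hVU f) = (Scheme.ΓSpecIso (CommRingCat.of Ω)).hom
        ((Spec.map (CommRingCat.ofHom u) ≫ hV.fromSpec).appLE (φ.left ⁻¹ᵁ U) ⊤
          (e.trans (Scheme.Hom.preimage_mono _ hVU)) f) := by
    intro u e
    rw [← Scheme.Hom.map_appLE (Spec.map (CommRingCat.ofHom u) ≫ hV.fromSpec) e (homOfLE hVU).op,
      CommRingCat.comp_apply]
    exact (spec_point_appLE hV (CommRingCat.ofHom u) e (rf hVU f)).symm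
  rw [hres u₁ h1, hres u₂ h2]
  exact congrArg _ key'

theorem mem_range_affine [IsIntegral X.left] [IsIntegral Y.left] [IsLocallyNoetherian Y.left]
    (hY : ∀ U : Y.left.affineOpens, IsIntegrallyClosed Γ(Y.left, U)) [CharZero Y.left.functionField]
    (a : AlgGrp.Action G X) (φ : X ⟶ Y) [IsDominant φ.left] [Surjective φ.left]
    (hii : ∀ (Ω : Type u) [Field Ω] [IsAlgClosed Ω] (T : Over S) (_ : T.left ≅ Spec (CommRingCat.of Ω))
      (x₁ x₂ : T ⟶ X), x₁ ≫ φ = x₂ ≫ φ → ∃ g : T ⟶ G, lift g x₂ ≫ a.act = x₁)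
    {U : Y.left.Opens} {f : Γ(X.left, φ.left ⁻¹ᵁ U)} (hf : GIT.IsInvSection a φ U f)
    {U' : Y.left.Opens} (hU' : IsAffineOpen U') [Nonempty U'] (hle : U' ≤ U) :
    ∃ c : Γ(Y.left, U'), φ.left.app U' c = rf (φ.left.preimage_mono hle) f := by
  obtain ⟨y₀⟩ := ‹Nonempty U'›
  obtain ⟨x₀, hx₀⟩ := φ.left.surjective y₀.1
  haveI : Nonempty (φ.left ⁻¹ᵁ U' : X.left.Opens) := ⟨⟨x₀, by show φ.left.base x₀ ∈ U'; rw [hx₀]; exact y₀.2⟩⟩
  obtain ⟨V, hV, hxV, hsub⟩ := exists_isAffineOpen_mem_and_subset (U := φ.left ⁻¹ᵁ U') (x := x₀)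
    (by show φ.left.base x₀ ∈ U'; rw [hx₀]; exact y₀.2)
  have hVU' : V ≤ φ.left ⁻¹ᵁ U' := hsub
  haveI : Nonempty V := ⟨⟨x₀, hxV⟩⟩
  haveI : IsIntegrallyClosed Γ(Y.left, U') := hY ⟨U', hU'⟩
  haveI : IsNoetherianRing Γ(Y.left, U') := IsLocallyNoetherian.component_noetherian ⟨U', hU'⟩
  haveI : CharZero Γ(Y.left, U') := by
    refine ⟨fun m n hmn => ?_⟩
    have := congrArg (Y.left.germToFunctionField U') hmn
    simpa using this
  letI : Algebra Γ(Y.left, U') Γ(X.left, V) := (φ.left.appLE U' V hVU').hom.toAlgebra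
  have hinj : Function.Injective (algebraMap Γ(Y.left, U') Γ(X.left, V)) := by
    show Function.Injective (φ.left.app U' ≫ X.left.presheaf.map (homOfLE hVU').op)
    exact (map_injective_of_isIntegral X.left (homOfLE hVU')).comp (app_injective φ.left U')
  have hVU : V ≤ φ.left ⁻¹ᵁ U := hVU'.trans (φ.left.preimage_mono hle)
  obtain ⟨num, den, hden, hfrac⟩ := exists_frac hinj (rf hVU f)
    (fun Ω _ _ u₁ u₂ h => eq_at_points a φ hii hf hU' hV hVU' hVU Ω u₁ u₂ h)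
  let F := rf (φ.left.preimage_mono hle) f
  have heq : φ.left.app U' den * F = φ.left.app U' num := by
    apply map_injective_of_isIntegral X.left (homOfLE hVU')
    rw [map_mul]
    show φ.left.appLE U' V hVU' den * rf hVU' F = φ.left.appLE U' V hVU' num
    rw [rf_rf]
    exact hfrac
  obtain ⟨c, hc⟩ := exists_eq_of_height_one num den hden (by
    intro p hp s r hs hr hsr
    have hb0 : φ.left.app U' den ≠ 0 := fun h0 =>
      hden (app_injective φ.left U' (h0.trans (map_zero _).symm))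
    have e : φ.left.app U' s = φ.left.app U' r * F := by
      apply mul_right_cancel₀ hb0
      rw [← map_mul, hsr, map_mul, ← heq]
      ring
    obtain ⟨x, hx⟩ := φ.left.surjective (hU'.fromSpec.base (⟨p, hp⟩ : PrimeSpectrum Γ(Y.left, U')))
    have hmem : ∀ t : Γ(Y.left, U'), x ∈ X.left.basicOpen (φ.left.app U' t) ↔ t ∉ p := by
      intro t
      rw [← Scheme.preimage_basicOpen]
      show φ.left.base x ∈ Y.left.basicOpen t ↔ _
      rw [hx]
      show (⟨p, hp⟩ : PrimeSpectrum Γ(Y.left, U')) ∈ hU'.fromSpec ⁻¹ᵁ Y.left.basicOpen t ↔ _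
      rw [hU'.fromSpec_preimage_basicOpen]
      rfl
    have h1 := (hmem s).mpr hs
    rw [e, Scheme.basicOpen_mul] at h1
    exact (hmem r).mp h1.1 hr)
  refine ⟨c, ?_⟩
  show _ = F
  apply mul_left_cancel₀ (a := φ.left.app U' den) (fun h0 => hden (app_injective φ.left U' (h0.trans (map_zero _).symm)))
  rw [heq, hc, map_mul]

theorem sections_eq [IsIntegral X.left] [IsIntegral Y.left] [IsLocallyNoetherian Y.left]
    (hY : ∀ U : Y.left.affineOpens, IsIntegrallyClosed Γ(Y.left, U)) [CharZero Y.left.functionField]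
    (a : AlgGrp.Action G X) (φ : X ⟶ Y) [IsDominant φ.left] [Surjective φ.left] (hi : GIT.IsInvariant a φ)
    (hii : ∀ (Ω : Type u) [Field Ω] [IsAlgClosed Ω] (T : Over S) (_ : T.left ≅ Spec (CommRingCat.of Ω))
      (x₁ x₂ : T ⟶ X), x₁ ≫ φ = x₂ ≫ φ → ∃ g : T ⟶ G, lift g x₂ ≫ a.act = x₁)
    (U : Y.left.Opens) :
    Function.Injective (φ.left.app U) ∧ Set.range (φ.left.app U) = {f | GIT.IsInvSection a φ U f} := by
  refine ⟨app_injective φ.left U, Set.Subset.antisymm ?_ ?_⟩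
  · rintro _ ⟨c, rfl⟩
    show a.act.left.appLE _ _ _ (φ.left.app U c) = (snd G X).left.appLE _ _ _ (φ.left.app U c)
    rw [← CommRingCat.comp_apply, ← CommRingCat.comp_apply, Scheme.Hom.app_eq_appLE,
      Scheme.Hom.appLE_comp_appLE, Scheme.Hom.appLE_comp_appLE]
    exact DFunLike.congr_fun (congrArg CommRingCat.Hom.hom (by
      simp only [← Over.comp_left]
      congr 1
      rw [hi])) c
  · intro f hf
    classical
    let ι' := {W : Y.left.affineOpens // (W : Y.left.Opens) ≤ U ∧ Nonempty (W : Y.left.Opens)}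
    have hex : ∀ W : ι', ∃ c : Γ(Y.left, (W.1 : Y.left.Opens)),
        φ.left.app _ c = rf (φ.left.preimage_mono W.2.1) f := fun W => by
      haveI := W.2.2
      exact mem_range_affine hY a φ hii hf W.1.2 W.2.1
    choose c hc using hex
    have hcov : U ≤ ⨆ W : ι', (W.1 : Y.left.Opens) := fun y hy => by
      obtain ⟨W, hW, hyW, hsub⟩ := exists_isAffineOpen_mem_and_subset (U := U) hy
      exact Opens.mem_iSup.mpr ⟨⟨⟨W, hW⟩, hsub, ⟨⟨y, hyW⟩⟩⟩, hyW⟩
    have hcompat : TopCat.Presheaf.IsCompatible Y.left.presheaf (fun W : ι' => (W.1 : Y.left.Opens)) c := by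
      intro i j
      apply app_injective φ.left
      show φ.left.app _ (rf inf_le_left (c i)) = φ.left.app _ (rf inf_le_right (c j))
      rw [app_rf, app_rf, hc, hc, rf_rf, rf_rf]
    obtain ⟨s, hs, -⟩ := TopCat.Sheaf.existsUnique_gluing' Y.left.sheaf (fun W : ι' => (W.1 : Y.left.Opens)) U
      (fun W => homOfLE W.2.1) hcov c hcompat
    refine ⟨s, ?_⟩
    refine LinB.eq_of_cover fun x hx => ?_
    obtain ⟨W, hyW⟩ := Opens.mem_iSup.mp (hcov (show φ.left.base x ∈ U from hx))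
    refine ⟨φ.left ⁻¹ᵁ (W.1 : Y.left.Opens), φ.left.preimage_mono W.2.1, hyW, ?_⟩
    rw [← app_rf φ.left W.2.1, show rf W.2.1 s = c W from hs W, hc W]

end

end Groth.Agent.H60.OrbFib
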